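import Groth.Prelude.Def_NonAbH2
import Mathlib.AlgebraicGeometry.Sites.Fpqc

/-!
Exact sequences of group schemes from points.
-/

set_option autoImplicit false
set_option backward.isDefEq.respectTransparency.types false

universe u

open CategoryTheory CategoryTheory.Limits MonoidalCategory CartesianMonoidalCategory MonObj AlgebraicGeometry

namespace Groth.Agent.TorsorSch25

variable {S : Scheme.{u}} {G G' G'' : Over S} [GrpObj G] [GrpObj G'] [GrpObj G'']

/-- A morphism multiplicative on points is a homomorphism. -/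
theorem isMonHom_of_points (f : G ⟶ G')
    (h : ∀ (T : Over S) (x y : T ⟶ G), (x * y) ≫ f = (x ≫ f) * (y ≫ f)) : IsMonHom f := by
  have hone : (1 : 𝟙_ (Over S) ⟶ G) ≫ f = 1 := by
    have h' := h _ (1 : 𝟙_ (Over S) ⟶ G) 1
    rw [_root_.one_mul] at h'
    exact right_eq_mul.1 h'
  refine ⟨?_, ?_⟩
  · rw [Hom.one_def, Hom.one_def, toUnit_unique (toUnit (𝟙_ (Over S))) (𝟙 _)] at hone
    simpa using hone
  · have h' := h _ (fst G G) (snd G G)
    rw [Hom.mul_def, lift_fst_snd, Category.id_comp, Hom.mul_def] at h'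
    rw [h', ← lift_map, lift_fst_snd, Category.id_comp]

/-- Exactness from points. -/
theorem isExactSeq_of_points (u : G' ⟶ G) (v : G ⟶ G'') [IsMonHom u] [IsMonHom v] (huv : u ≫ v = 1)
    (h : ∀ (T : Over S) (x y : T ⟶ G), x ≫ v = y ≫ v → ∃! k : T ⟶ G', x * (k ≫ u) = y)
    [Flat v.left] [Surjective v.left] [QuasiCompact v.left] :
    NonAbH1.IsExactSeq Scheme.fpqcPrecoverage u v := by
  refine ⟨inferInstance, inferInstance, huv, ?_, ?_⟩
  · have key : ∀ {T : Over S} (l : T ⟶ G ⊗ G'), l ≫ (G ◁ u) ≫ μ[G] = (l ≫ fst G G') * ((l ≫ snd G G') ≫ u) := by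
      intro T l
      rw [Hom.mul_def, ← lift_whiskerLeft_assoc, ← comp_lift, lift_fst_snd, Category.comp_id]
    have hw : fst G G' ≫ v = ((G ◁ u) ≫ μ[G]) ≫ v := by
      have := key (𝟙 (G ⊗ G'))
      rw [Category.id_comp, Category.id_comp, Category.id_comp] at this
      rw [this, MonObj.mul_comp, Category.assoc, huv, MonObj.comp_one, _root_.mul_one]
    let l : ∀ (c : PullbackCone v v), c.pt ⟶ G ⊗ G' := fun c =>
      lift c.fst (h c.pt c.fst c.snd c.condition).choose
    refine IsPullback.of_isLimit (c := PullbackCone.mk _ _ hw) (PullbackCone.IsLimit.mk _ l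
      (fun c => lift_fst _ _) (fun c => ?_) fun c m hm1 hm2 => ?_)
    · rw [key, lift_fst, lift_snd]
      exact (h c.pt c.fst c.snd c.condition).choose_spec.1
    · refine CartesianMonoidalCategory.hom_ext _ _ (by rw [lift_fst]; exact hm1) ?_
      rw [lift_snd]
      refine (h c.pt c.fst c.snd c.condition).choose_spec.2 _ ?_
      show _ * _ = _
      rw [← hm1, ← key]
      exact hm2
  · refine ⟨Presieve.singleton v.left, Scheme.Hom.singleton_mem_fpqcPrecoverage _, fun S' f hf => ?_⟩
    obtain ⟨⟩ := hf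
    exact ⟨𝟙 _, Category.id_comp _⟩

end Groth.Agent.TorsorSch25
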