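import Groth.Agent.Lib.TorsorSch25.Basic
import Groth.Agent.Lib.FpqcDesc.Basic
import Mathlib.AlgebraicGeometry.Morphisms.LocalFlatDescent

/-!
Trivialisation of torsors with a section; transfer of properties from the group to torsors by fpqc descent.
-/

set_option autoImplicit false
set_option backward.isDefEq.respectTransparency.types false

universe u

open CategoryTheory CategoryTheory.Limits MonoidalCategory CartesianMonoidalCategory MonObj AlgebraicGeometry
  MorphismProperty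

namespace Groth.Agent.TorsorSch25

variable {S : Scheme.{u}} {G X : Over S} [GrpObj G] {a : AlgGrp.Action G X}

/-- A pseudo-torsor with a point is isomorphic to the trivial one. -/
theorem exists_equivIso (h : NonAbH1.IsPseudoTorsorSch a) (x : 𝟙_ (Over S) ⟶ X) :
    ∃ e : NonAbH1.EquivIso (NonAbH1.trivialAction G) a, e.iso.hom = lift (𝟙 G) (toUnit G ≫ x) ≫ a.act := by
  let t : G ⟶ X := lift (𝟙 G) (toUnit G ≫ x) ≫ a.act
  have ht : ∀ {T : Over S} (g : T ⟶ G), g ≫ t = lift g (toUnit T ≫ x) ≫ a.act := fun {T} g => by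
    rw [show g ≫ t = g ≫ lift (𝟙 G) (toUnit G ≫ x) ≫ a.act from rfl, comp_lift_assoc, Category.comp_id,
      ← Category.assoc, toUnit_unique (g ≫ toUnit G) (toUnit T)]
  obtain ⟨g, hg, -⟩ := existsUnique_smul h (toUnit X ≫ x) (𝟙 X)
  have h1 : g ≫ t = 𝟙 X := by rw [ht, hg]
  have h2 : t ≫ g = 𝟙 G := by
    refine smul_cancel h (x := toUnit G ≫ x) ?_
    rw [← ht, Category.assoc, h1, Category.comp_id]
  refine ⟨⟨⟨t, g, h2, h1⟩, ?_⟩, rfl⟩
  apply AlgGrp.Action.hom_ext_lift₂
  intro T g₁ g₂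
  show lift g₁ g₂ ≫ μ[G] ≫ t = lift g₁ g₂ ≫ (G ◁ t) ≫ a.act
  rw [← Category.assoc, ← Hom.mul_def, ht, lift_whiskerLeft_assoc, ht, AlgGrp.Action.lift_mul_act]

/-- Change of the fpqc covering to a faithfully flat affine scheme over an affine open of the base. -/
theorem exists_affine_test {R : Presieve S} (hR : R ∈ Scheme.fpqcPrecoverage S) {U : S.Opens}
    (hU : IsAffineOpen U) :
    ∃ (W : Scheme.{u}) (w : W ⟶ U.toScheme), IsAffine W ∧ Flat w ∧ Surjective w ∧ QuasiCompact w ∧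
      ∀ X : Over S, (∀ ⦃S' : Scheme.{u}⦄ (f : S' ⟶ S), R f → NonAbH1.HasSectionOver X f) →
        NonAbH1.HasSectionOver X (w ≫ U.ι) := by
  obtain ⟨𝒰, hqc, rfl⟩ := Scheme.mem_propQCPrecoverage_iff_exists_quasiCompactCover.1 hR
  obtain ⟨n, k, V, hV, hcov⟩ := QuasiCompactCover.exists_isAffineOpen_of_isCompact (𝒰 := 𝒰.toPreZeroHypercover)
    hU.isCompact
  have hle : ∀ i, V i ≤ 𝒰.f (k i) ⁻¹ᵁ U := fun i x hx => by
    show 𝒰.f (k i) x ∈ (U : Set S)
    rw [← hcov]
    exact Set.mem_iUnion.2 ⟨i, x, hx, rfl⟩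
  haveI : ∀ i, IsAffine (V i).toScheme := hV
  haveI : IsAffine U.toScheme := hU
  haveI : ∀ i, Flat (𝒰.f (k i)) := fun i => 𝒰.map_prop (k i)
  let w : (∐ fun i : Fin n => (V i).toScheme) ⟶ U.toScheme :=
    Sigma.desc fun i => (𝒰.f (k i)).resLE U (V i) (hle i)
  have hw : ∀ i, Sigma.ι (fun i : Fin n => (V i).toScheme) i ≫ w = (𝒰.f (k i)).resLE U (V i) (hle i) :=
    fun i => Sigma.ι_desc _ _
  haveI : Flat w := IsZariskiLocalAtSource.sigmaDesc (fun i => inferInstance)
  haveI : Surjective w := ⟨fun y => by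
    have hy : y.1 ∈ (⋃ i, 𝒰.f (k i) '' (V i : Set _)) := hcov.symm ▸ y.2
    obtain ⟨i, x, hx, hxy⟩ := Set.mem_iUnion.1 hy
    refine ⟨Sigma.ι (fun i : Fin n => (V i).toScheme) i ⟨x, hx⟩, ?_⟩
    rw [← Scheme.Hom.comp_apply, hw]
    apply U.ι.injective
    rw [← Scheme.Hom.comp_apply, Scheme.Hom.resLE_comp_ι, Scheme.Hom.comp_apply]
    exact hxy⟩
  refine ⟨_, w, inferInstance, inferInstance, inferInstance, inferInstance, fun X hX => ?_⟩
  choose s hs using fun i => hX (𝒰.f (k i)) (Presieve.ofArrows.mk (k i))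
  refine ⟨Sigma.desc fun i => (V i).ι ≫ s i, Sigma.hom_ext _ _ fun i => ?_⟩
  rw [← Category.assoc, Sigma.ι_desc, Category.assoc, hs, ← Category.assoc, hw, Scheme.Hom.resLE_comp_ι]

/-- A point of the base change from a section over the base change morphism. -/
theorem exists_point_bc {W : Scheme.{u}} (w : W ⟶ S) (hs : NonAbH1.HasSectionOver X w) :
    Nonempty (𝟙_ (Over W) ⟶ Red.bc w X) := by
  obtain ⟨s, hs⟩ := hs
  exact ⟨Over.homMk (pullback.lift s (𝟙 W) (hs.trans (Category.id_comp w).symm)) (pullback.lift_snd _ _ _)⟩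

/-- After base change to a scheme over which there is a section, a torsor looks like the group. -/
theorem prop_pullback_snd_of_hasSectionOver (P : MorphismProperty Scheme.{u}) [P.RespectsIso]
    [P.IsStableUnderBaseChange] (h : NonAbH1.IsPseudoTorsorSch a) {W : Scheme.{u}} (w : W ⟶ S)
    (hs : NonAbH1.HasSectionOver X w) (hG : P G.hom) : P (pullback.snd X.hom w) := by
  obtain ⟨x⟩ := exists_point_bc w hs
  obtain ⟨e, -⟩ := exists_equivIso (NonAbH1.isPseudoTorsorSch_bc w h) x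
  have e1 : e.iso.hom.left ≫ pullback.snd X.hom w = pullback.snd G.hom w := Over.w e.iso.hom
  have : IsIso e.iso.hom.left := inferInstanceAs (IsIso ((Over.forget W).map e.iso.hom))
  rw [← P.cancel_left_of_respectsIso e.iso.hom.left, e1]
  exact P.pullback_snd _ _ hG

/-- fpqc descent of properties from the group to torsors. -/
theorem prop_of_isTorsorFor (P : MorphismProperty Scheme.{u}) [P.IsStableUnderBaseChange]
    [IsZariskiLocalAtTarget P]
    [P.DescendsAlong (@Surjective ⊓ @Flat ⊓ @QuasiCompact : MorphismProperty Scheme.{u})]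
    (h : NonAbH1.IsTorsorFor Scheme.fpqcPrecoverage a) (hG : P G.hom) : P X.hom := by
  obtain ⟨R, hR, hsec⟩ := h.2
  rw [IsZariskiLocalAtTarget.iff_of_iSup_eq_top (P := P) _ (iSup_affineOpens_eq_top S)]
  rintro ⟨U, hU⟩
  obtain ⟨W, w, _, _, _, _, hsecW⟩ := exists_affine_test hR hU
  have h2 : IsPullback (pullback.snd w (X.hom ∣_ U) ≫ (X.hom ⁻¹ᵁ U).ι) (pullback.fst w (X.hom ∣_ U)) X.hom
      (w ≫ U.ι) :=
    (IsPullback.of_hasPullback w (X.hom ∣_ U)).flip.paste_horiz (isPullback_morphismRestrict X.hom U).flip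
  have h3 : P (pullback.fst w (X.hom ∣_ U)) := by
    rw [← h2.isoPullback_hom_snd, P.cancel_left_of_respectsIso]
    exact prop_pullback_snd_of_hasSectionOver P h.1 _ (hsecW X hsec) hG
  exact of_pullback_fst_of_descendsAlong (P := P) (Q := @Surjective ⊓ @Flat ⊓ @QuasiCompact)
    ⟨⟨inferInstance, inferInstance⟩, inferInstance⟩ h3

theorem flat_descendsAlong :
    DescendsAlong @Flat (@Surjective ⊓ @Flat ⊓ @QuasiCompact : MorphismProperty Scheme.{u}) := by
  refine HasRingHomProperty.descendsAlong_flat (Q := fun f => f.Flat)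
    (.mk _ RingHom.Flat.respectsIso fun R S T _ _ _ _ _ h h' => ?_)
  rw [RingHom.flat_algebraMap_iff] at h' ⊢
  rw [RingHom.faithfullyFlat_algebraMap_iff] at h
  exact Module.Flat.of_flat_tensorProduct R T S

end Groth.Agent.TorsorSch25
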