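import Groth.Prelude.Def_ActBC
import Groth.Prelude.Def_ChGrp
import Mathlib.AlgebraicGeometry.Sites.Fpqc

/-!
Torsors under group schemes: calculus on points, gluing for the fpqc topology, trivialisations.
-/

set_option autoImplicit false
set_option backward.isDefEq.respectTransparency.types false

universe u

open CategoryTheory CategoryTheory.Limits MonoidalCategory CartesianMonoidalCategory MonObj AlgebraicGeometry

namespace Groth.Agent.TorsorSch25

variable {S : Scheme.{u}}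

/-! ### Gluing morphisms over `S` along an fpqc covering of the source -/

theorem isSheafFor_fpqc {B : Scheme.{u}} {R : Presieve B} (hR : R ∈ Scheme.fpqcPrecoverage B) (Z : Scheme.{u}) :
    R.IsSheafFor (yoneda.obj Z) := by
  have hm : Sieve.generate R ∈ Scheme.fpqcTopology B :=
    Precoverage.generate_mem_toGrothendieck (J := Scheme.fpqcPrecoverage) (R := R) hR
  exact (GrothendieckTopology.Subcanonical.isSheaf_of_isRepresentable (J := Scheme.fpqcTopology) _).isSheafFor R hm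

theorem hom_ext_of_cover {T Z : Over S} {R : Presieve T.left} (hR : R ∈ Scheme.fpqcPrecoverage T.left)
    {z z' : T ⟶ Z} (h : ∀ ⦃T' : Over S⦄ (f : T' ⟶ T), R f.left → f ≫ z = f ≫ z') : z = z' := by
  ext : 1
  refine (isSheafFor_fpqc hR Z.left).isSeparatedFor.ext fun T' f hf => ?_
  exact congrArg (fun q => q.left) (h (Over.homMk f rfl : Over.mk (f ≫ T.hom) ⟶ T) hf)

/-- Glue a property having unique solutions: local solutions give a global morphism which locally solves it. -/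
theorem exists_glue {T Z : Over S} (P : ∀ ⦃T' : Over S⦄, (T' ⟶ T) → (T' ⟶ Z) → Prop)
    (hres : ∀ ⦃T' T'' : Over S⦄ (a : T'' ⟶ T') (f : T' ⟶ T) (z : T' ⟶ Z), P f z → P (a ≫ f) (a ≫ z))
    (huniq : ∀ ⦃T' : Over S⦄ (f : T' ⟶ T) (z z' : T' ⟶ Z), P f z → P f z' → z = z')
    {R : Presieve T.left} (hR : R ∈ Scheme.fpqcPrecoverage T.left)
    (h : ∀ ⦃T' : Over S⦄ (f : T' ⟶ T), R f.left → ∃ z, P f z) :
    ∃ z : T ⟶ Z, ∀ ⦃T' : Over S⦄ (f : T' ⟶ T), R f.left → P f (f ≫ z) := by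
  choose z hz using h
  let lft : ∀ {V : Scheme.{u}} (f : V ⟶ T.left), (Over.mk (f ≫ T.hom) ⟶ T) := fun f => Over.homMk f rfl
  have hsheaf := isSheafFor_fpqc hR Z.left
  let fam : Presieve.FamilyOfElements (yoneda.obj Z.left) R := fun V f hf => (z (lft f) hf).left
  have hc : fam.Compatible := by
    intro Y₁ Y₂ W g₁ g₂ f₁ f₂ h₁ h₂ e
    let a₁ : Over.mk (g₁ ≫ f₁ ≫ T.hom) ⟶ Over.mk (f₁ ≫ T.hom) := Over.homMk g₁ rfl
    let a₂ : Over.mk (g₁ ≫ f₁ ≫ T.hom) ⟶ Over.mk (f₂ ≫ T.hom) := Over.homMk g₂ (by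
      show g₂ ≫ f₂ ≫ T.hom = g₁ ≫ f₁ ≫ T.hom
      rw [← Category.assoc, ← e, Category.assoc])
    have e' : a₁ ≫ lft f₁ = a₂ ≫ lft f₂ := Over.OverMorphism.ext e
    have h1 := hres a₁ _ _ (hz (lft f₁) h₁)
    have h2 := hres a₂ _ _ (hz (lft f₂) h₂)
    rw [← e'] at h2
    exact congrArg (fun q => q.left) (huniq _ _ _ h1 h2)
  obtain ⟨g, hg, -⟩ := hsheaf fam hc
  have hgT : g ≫ Z.hom = T.hom := by
    refine (isSheafFor_fpqc hR S).isSeparatedFor.ext fun V f hf => ?_
    show f ≫ g ≫ Z.hom = f ≫ T.hom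
    have e : f ≫ g = (z (lft f) hf).left := hg f hf
    rw [reassoc_of% e]
    exact Over.w (z (lft f) hf)
  refine ⟨Over.homMk g hgT, fun T' f hf => ?_⟩
  have e : f ≫ Over.homMk g hgT = eqToHom rfl ≫ f ≫ Over.homMk g hgT := by simp
  let c : T' ⟶ Over.mk (f.left ≫ T.hom) := Over.homMk (𝟙 _) (by simp)
  have h1 := hres c _ _ (hz (lft f.left) hf)
  have e1 : c ≫ lft f.left = f := Over.OverMorphism.ext (Category.id_comp _)
  have e2 : c ≫ z (lft f.left) hf = f ≫ Over.homMk g hgT := Over.OverMorphism.ext (by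
    show 𝟙 _ ≫ (z (lft f.left) hf).left = f.left ≫ g
    rw [Category.id_comp]
    exact (hg f.left hf).symm)
  rwa [e1, e2] at h1

theorem exists_of_pullbackArrows {R : Presieve S} {T : Scheme.{u}} {p : T ⟶ S} {V : Scheme.{u}} {f : V ⟶ T}
    (hf : R.pullbackArrows p f) : ∃ (W : Scheme.{u}) (u : W ⟶ S) (_ : R u) (q : V ⟶ W), q ≫ u = f ≫ p := by
  obtain ⟨W, u, hu⟩ := hf
  exact ⟨_, u, hu, pullback.fst u p, pullback.condition⟩

/-- Coverings of the base pull back to coverings of any object over it. -/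
theorem exists_cover_over {R : Presieve S} (hR : R ∈ Scheme.fpqcPrecoverage S) (T : Over S) :
    ∃ R' ∈ Scheme.fpqcPrecoverage T.left, ∀ ⦃X : Over S⦄,
      (∀ ⦃S' : Scheme.{u}⦄ (f : S' ⟶ S), R f → NonAbH1.HasSectionOver X f) →
      ∀ ⦃T' : Over S⦄ (f : T' ⟶ T), R' f.left → Nonempty (T' ⟶ X) := by
  refine ⟨R.pullbackArrows T.hom, Precoverage.pullbackArrows_mem T.hom hR, fun X hX T' f hf => ?_⟩
  obtain ⟨V, u, hu, q, hq⟩ := exists_of_pullbackArrows hf
  obtain ⟨s, hs⟩ := hX u hu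
  exact ⟨Over.homMk (q ≫ s) (by rw [Category.assoc, hs, hq, Over.w])⟩

/-! ### Pseudo-torsors on points -/

section Points

variable {G X : Over S} [GrpObj G] {a : AlgGrp.Action G X}

theorem lift_shear {T : Over S} (g : T ⟶ G) (x : T ⟶ X) :
    lift g x ≫ lift a.act (snd G X) = lift (lift g x ≫ a.act) x := by
  rw [comp_lift, lift_snd]

theorem existsUnique_smul (h : NonAbH1.IsPseudoTorsorSch a) {T : Over S} (x y : T ⟶ X) :
    ∃! g : T ⟶ G, lift g x ≫ a.act = y := by
  haveI : IsIso (lift a.act (snd G X)) := h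
  let p : T ⟶ G ⊗ X := lift y x ≫ inv (lift a.act (snd G X))
  have hp : p ≫ lift a.act (snd G X) = lift y x := by
    rw [show p = lift y x ≫ inv (lift a.act (snd G X)) from rfl, Category.assoc, IsIso.inv_hom_id, Category.comp_id]
  have hp1 : p ≫ a.act = y := by
    have := congrArg (fun q => q ≫ fst X X) hp
    simpa [comp_lift] using this
  have hp2 : p ≫ snd G X = x := by
    have := congrArg (fun q => q ≫ snd X X) hp
    simpa [comp_lift] using this
  have hp3 : lift (p ≫ fst G X) x = p := by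
    rw [← hp2, ← comp_lift, lift_fst_snd, Category.comp_id]
  refine ⟨p ≫ fst G X, by simp only [hp3, hp1], fun g hg => ?_⟩
  have : lift g x = p := by
    rw [← cancel_mono (lift a.act (snd G X)), lift_shear, hg, hp]
  rw [← this, lift_fst]

theorem smul_cancel (h : NonAbH1.IsPseudoTorsorSch a) {T : Over S} {g g' : T ⟶ G} {x : T ⟶ X}
    (e : lift g x ≫ a.act = lift g' x ≫ a.act) : g = g' :=
  (existsUnique_smul h x _).unique e rfl

theorem isPseudoTorsorSch_of_existsUnique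
    (h : ∀ (T : Over S) (x y : T ⟶ X), ∃! g : T ⟶ G, lift g x ≫ a.act = y) :
    NonAbH1.IsPseudoTorsorSch a := by
  obtain ⟨g, hg, -⟩ := h (X ⊗ X) (snd X X) (fst X X)
  refine ⟨⟨lift g (snd X X), ?_, ?_⟩⟩
  · have h1 : lift a.act (snd G X) ≫ g = fst G X := by
      refine (h (G ⊗ X) (snd G X) a.act).unique ?_ (by rw [lift_fst_snd, Category.id_comp])
      have := congrArg (fun q => lift a.act (snd G X) ≫ q) hg
      simpa [comp_lift_assoc] using this
    rw [comp_lift, h1, lift_snd, lift_fst_snd]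
  · rw [lift_shear, hg, lift_fst_snd]

/-- The trivialisation given by a point. -/
noncomputable def trivHom (a : AlgGrp.Action G X) {T : Over S} (s : T ⟶ X) : G ⊗ T ⟶ X ⊗ T :=
  lift ((G ◁ s) ≫ a.act) (snd G T)

theorem lift_trivHom {T U : Over S} (s : T ⟶ X) (g : U ⟶ G) (t : U ⟶ T) :
    lift g t ≫ trivHom a s = lift (lift g (t ≫ s) ≫ a.act) t := by
  rw [trivHom, comp_lift, lift_whiskerLeft_assoc, lift_snd]

theorem isIso_trivHom (h : NonAbH1.IsPseudoTorsorSch a) {T : Over S} (s : T ⟶ X) : IsIso (trivHom a s) := by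
  obtain ⟨g, hg, -⟩ := existsUnique_smul h (snd X T ≫ s) (fst X T)
  refine ⟨⟨lift g (snd X T), ?_, ?_⟩⟩
  · have h1 : trivHom a s ≫ g = fst G T := by
      refine smul_cancel h (x := snd G T ≫ s) ?_
      have := congrArg (fun q => trivHom a s ≫ q) hg
      simp only [comp_lift_assoc, trivHom, lift_snd_assoc, lift_fst] at this
      rw [trivHom, this, ← lift_whiskerLeft_assoc, lift_fst_snd, Category.id_comp]
    rw [comp_lift, h1]
    simp [trivHom]
  · rw [lift_trivHom, hg, lift_fst_snd]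

theorem existsUnique_smul_of_isIso_trivHom {T : Over S} (s : T ⟶ X) [IsIso (trivHom a s)] {U : Over S}
    (t : U ⟶ T) (y : U ⟶ X) : ∃! g : U ⟶ G, lift g (t ≫ s) ≫ a.act = y := by
  let p : U ⟶ G ⊗ T := lift y t ≫ inv (trivHom a s)
  have hp : p ≫ trivHom a s = lift y t := by simp [p]
  have hp1 : p ≫ snd G T = t := by
    have := congrArg (fun q => q ≫ snd X T) hp
    simpa [trivHom, comp_lift] using this
  have hp2 : p = lift (p ≫ fst G T) t := by
    rw [← hp1, ← comp_lift, lift_fst_snd, Category.comp_id]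
  rw [hp2, lift_trivHom] at hp
  refine ⟨p ≫ fst G T, ?_, fun g hg => ?_⟩
  · have := congrArg (fun q => q ≫ fst X T) hp
    simpa using this
  · have : lift g t = p := by
      rw [← cancel_mono (trivHom a s), lift_trivHom, hg]
      simp [p]
    rw [← this, lift_fst]

/-- An action locally of the form "group acting on itself" is a pseudo-torsor. -/
theorem isPseudoTorsorSch_of_cover {R : Presieve S} (hR : R ∈ Scheme.fpqcPrecoverage S)
    (h : ∀ ⦃S' : Scheme.{u}⦄ (f : S' ⟶ S), R f → ∃ s : Over.mk f ⟶ X, IsIso (trivHom a s)) :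
    NonAbH1.IsPseudoTorsorSch a := by
  refine isPseudoTorsorSch_of_existsUnique fun T x y => ?_
  have hR' : R.pullbackArrows T.hom ∈ Scheme.fpqcPrecoverage T.left := Precoverage.pullbackArrows_mem T.hom hR
  have key : ∀ ⦃T' : Over S⦄ (f : T' ⟶ T), R.pullbackArrows T.hom f.left →
      ∃! g : T' ⟶ G, lift g (f ≫ x) ≫ a.act = f ≫ y := by
    intro T' f hf
    obtain ⟨V, u, hu, q, hq⟩ := exists_of_pullbackArrows hf
    obtain ⟨s, hs⟩ := h u hu
    let t : T' ⟶ Over.mk u := Over.homMk q (hq.trans (Over.w f))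
    obtain ⟨g₁, hg₁, -⟩ := existsUnique_smul_of_isIso_trivHom (a := a) s t (f ≫ x)
    obtain ⟨g₂, hg₂, hu₂⟩ := existsUnique_smul_of_isIso_trivHom (a := a) s t (f ≫ y)
    refine ⟨g₂ * g₁⁻¹, ?_, fun g hg => ?_⟩
    · show lift _ _ ≫ _ = _
      rw [← hg₁, ← AlgGrp.Action.lift_mul_act, inv_mul_cancel_right, hg₂]
    · have : g * g₁ = g₂ := hu₂ _ (show lift _ _ ≫ _ = _ by rw [AlgGrp.Action.lift_mul_act, hg₁, hg])
      rw [← this, mul_inv_cancel_right]
  have uniq : ∀ ⦃T' : Over S⦄ (f : T' ⟶ T) (g g' : T' ⟶ G),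
      lift g (f ≫ x) ≫ a.act = f ≫ y → lift g' (f ≫ x) ≫ a.act = f ≫ y → g = g' := by
    intro T' f g g' hg hg'
    refine hom_ext_of_cover (Precoverage.pullbackArrows_mem T'.hom hR) fun V c hc => ?_
    obtain ⟨W, u, hu, q, hq⟩ := exists_of_pullbackArrows hc
    have hh : ∀ g'' : T' ⟶ G, lift g'' (f ≫ x) ≫ a.act = f ≫ y →
        lift (c ≫ g'') (c ≫ f ≫ x) ≫ a.act = c ≫ f ≫ y := fun g'' hg'' => by
      rw [← comp_lift_assoc, hg'']
    obtain ⟨s, hs⟩ := h u hu
    let t : V ⟶ Over.mk u := Over.homMk q (hq.trans (Over.w c))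
    obtain ⟨g₁, hg₁, -⟩ := existsUnique_smul_of_isIso_trivHom (a := a) s t (c ≫ f ≫ x)
    have h1 := hh g hg
    have h2 := hh g' hg'
    rw [← hg₁, ← AlgGrp.Action.lift_mul_act] at h1 h2
    exact mul_right_cancel ((existsUnique_smul_of_isIso_trivHom (a := a) s t (c ≫ f ≫ y)).unique h1 h2)
  obtain ⟨g, hg⟩ := exists_glue (T := T) (Z := G) (fun T' f g => lift g (f ≫ x) ≫ a.act = f ≫ y)
    (fun T' T'' b f z hz => by rw [Category.assoc, Category.assoc, ← hz, comp_lift_assoc])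
    uniq hR' (fun T' f hf => (key f hf).exists)
  refine ⟨g, ?_, fun g' hg' => ?_⟩
  · refine hom_ext_of_cover hR' fun T' f hf => ?_
    rw [comp_lift_assoc]
    exact hg f hf
  · refine hom_ext_of_cover hR' fun T' f hf => (key f hf).unique ?_ (hg f hf)
    show lift (f ≫ g') (f ≫ x) ≫ a.act = f ≫ y
    rw [← comp_lift_assoc, hg']

/-- Equivariant morphisms of torsors are isomorphisms. -/
theorem isIso_of_equivariant {X' : Over S} {a' : AlgGrp.Action G X'}
    (ha : NonAbH1.IsTorsorFor Scheme.fpqcPrecoverage a) (ha' : NonAbH1.IsPseudoTorsorSch a')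
    (f : X ⟶ X') (hf : a.act ≫ f = (G ◁ f) ≫ a'.act) : IsIso f := by
  obtain ⟨R, hR, hsec⟩ := ha.2
  have hf' : ∀ {T : Over S} (g : T ⟶ G) (x : T ⟶ X), lift g x ≫ a.act ≫ f = lift g (x ≫ f) ≫ a'.act := by
    intro T g x
    rw [hf, lift_whiskerLeft_assoc]
  have inj : ∀ {T : Over S} (x x' : T ⟶ X), x ≫ f = x' ≫ f → x = x' := by
    intro T x x' e
    obtain ⟨g, hg, -⟩ := existsUnique_smul ha.1 x x'
    have h1 : lift g (x ≫ f) ≫ a'.act = lift (1 : T ⟶ G) (x ≫ f) ≫ a'.act := by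
      rw [← hf', reassoc_of% hg, AlgGrp.Action.lift_one_act, e]
    rw [← hg, smul_cancel ha' h1, AlgGrp.Action.lift_one_act]
  obtain ⟨R', hR', hR''⟩ := exists_cover_over hR X'
  obtain ⟨b, hb⟩ := exists_glue (T := X') (Z := X) (fun T' c x => x ≫ f = c)
    (fun T' T'' b c z hz => by rw [Category.assoc, hz]) (fun T' c z z' h1 h2 => inj z z' (h1.trans h2.symm))
    hR' (fun T' c hc => by
      obtain ⟨x⟩ := hR'' hsec c hc
      obtain ⟨g, hg, -⟩ := existsUnique_smul ha' (x ≫ f) c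
      exact ⟨lift g x ≫ a.act, by rw [Category.assoc, hf', hg]⟩)
  have hbf : b ≫ f = 𝟙 _ := hom_ext_of_cover hR' fun T' c hc => by
    rw [Category.comp_id, ← Category.assoc]
    exact hb c hc
  exact ⟨⟨b, inj _ _ (by rw [Category.assoc, hbf, Category.comp_id, Category.id_comp]), hbf⟩⟩

end Points

end Groth.Agent.TorsorSch25
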