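import Groth.Agent.Lib.TorsorSch25.Transfer
import Mathlib.AlgebraicGeometry.Morphisms.FlatRank
import Mathlib.AlgebraicGeometry.Morphisms.UniversallyInjective
import Mathlib.FieldTheory.PurelyInseparable.Exponent
import Mathlib.RingTheory.Artinian.Ring
import Mathlib.RingTheory.Spectrum.Prime.Jacobson

/-!
Torsors under finite connected group schemes over a field are points with purely inseparable residue field.
-/

set_option autoImplicit false
set_option backward.isDefEq.respectTransparency.types false

universe u

open CategoryTheory CategoryTheory.Limits MonoidalCategory CartesianMonoidalCategory MonObj AlgebraicGeometry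

namespace Groth.Agent.TorsorSch25

/-- A morphism with a surjective section is universally injective. -/
theorem universallyInjective_of_section {A B : Scheme.{u}} (f : A ⟶ B) (e : B ⟶ A) (he : e ≫ f = 𝟙 B)
    [Surjective e] : UniversallyInjective f := by
  refine ((tfae_universallyInjective f).out 2 0).1 ?_
  refine ⟨?_, fun x => ?_⟩
  · intro x x' hx
    obtain ⟨y, rfl⟩ := e.surjective x
    obtain ⟨y', rfl⟩ := e.surjective x'
    rw [← Scheme.Hom.comp_apply, ← Scheme.Hom.comp_apply, he] at hx
    exact congrArg e hx
  · obtain ⟨y, rfl⟩ := e.surjective x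
    have hiso : IsIso ((e ≫ f).residueFieldMap y) := by
      have h0 : IsOpenImmersion (e ≫ f) := by rw [he]; infer_instance
      infer_instance
    have hbij := ConcreteCategory.bijective_of_isIso ((e ≫ f).residueFieldMap y)
    rw [Scheme.residueFieldMap_comp] at hbij
    change Function.Bijective ((e.residueFieldMap y).hom ∘ (f.residueFieldMap (e y)).hom) at hbij
    have hsurj : Function.Surjective (f.residueFieldMap (e y)).hom := fun z => by
      obtain ⟨w, hw⟩ := hbij.surjective ((e.residueFieldMap y).hom z)
      exact ⟨w, (e.residueFieldMap y).hom.injective hw⟩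
    algebraize [(f.residueFieldMap (e y)).hom]
    rw [RingHom.IsPurelyInseparable]
    haveI : Module.Finite (B.residueField (f (e y))) (A.residueField (e y)) :=
      Module.Finite.of_surjective (Algebra.linearMap _ _) hsurj
    exact { isIntegral := inferInstance, inseparable' := fun z _ => hsurj z }

variable {K : Type u} [Field K]

theorem subsingleton_of_finite_connected (X : Over (Spec (CommRingCat.of K))) [IsFinite X.hom]
    [ConnectedSpace X.left] : Subsingleton X.left := by
  haveI : IsAffine X.left := isAffine_of_isAffineHom X.hom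
  have hf : (X.hom.appTop.hom.comp (Scheme.ΓSpecIso (CommRingCat.of K)).inv.hom).Finite :=
    X.hom.finite_appTop.comp (RingHom.Finite.of_surjective _
      (Scheme.ΓSpecIso (CommRingCat.of K)).commRingCatIsoToRingEquiv.symm.surjective)
  letI : Algebra K Γ(X.left, ⊤) := (X.hom.appTop.hom.comp (Scheme.ΓSpecIso (CommRingCat.of K)).inv.hom).toAlgebra
  haveI : Module.Finite K Γ(X.left, ⊤) := hf
  haveI : IsArtinianRing Γ(X.left, ⊤) := IsArtinianRing.of_finite K _
  let e := X.left.isoSpec.hom.homeomorph
  haveI : DiscreteTopology X.left :=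
    (show X.left ≃ₜ PrimeSpectrum Γ(X.left, ⊤) from e).discreteTopology_iff.2 inferInstance
  exact ⟨fun a b => PreconnectedSpace.constant inferInstance (f := id) continuous_id⟩

theorem universallyInjective_of_connected (G : Over (Spec (CommRingCat.of K))) [GrpObj G] [IsFinite G.hom]
    [ConnectedSpace G.left] : UniversallyInjective G.hom := by
  haveI := subsingleton_of_finite_connected G
  let e : Spec (CommRingCat.of K) ⟶ G.left := η[G].left
  have he : e ≫ G.hom = 𝟙 _ := Over.w η[G]
  haveI : Surjective e := ⟨fun y => ⟨IsLocalRing.closedPoint K, Subsingleton.elim _ _⟩⟩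
  exact universallyInjective_of_section G.hom e he

theorem flat_over_field {X : Scheme.{u}} (f : X ⟶ Spec (CommRingCat.of K)) : Flat f := by
  rw [IsZariskiLocalAtSource.iff_of_openCover (P := @Flat) X.affineCover]
  intro i
  obtain ⟨φ, hφ⟩ := Spec.map_surjective (X.affineCover.f i ≫ f)
  have : Flat (Spec.map φ) := by
    rw [Flat.SpecMap_iff]
    algebraize [φ.hom]
    show RingHom.Flat (algebraMap K _)
    rw [RingHom.flat_algebraMap_iff]
    infer_instance
  rw [hφ] at this
  exact this

variable {G X : Over (Spec (CommRingCat.of K))} [GrpObj G] [IsFinite G.hom] {a : AlgGrp.Action G X}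

/-- The rank of a torsor is the rank of the group. -/
theorem finrank_eq_of_isTorsorFor (h : NonAbH1.IsTorsorFor Scheme.fpqcPrecoverage a) [IsFinite X.hom]
    (s : Spec (CommRingCat.of K)) : X.hom.finrank s = G.hom.finrank s := by
  haveI := flat_over_field X.hom
  haveI := flat_over_field G.hom
  haveI : Surjective G.hom := ⟨fun y => ⟨η[G].left y, by rw [← Scheme.Hom.comp_apply, Over.w η[G]]; rfl⟩⟩
  haveI : Surjective X.hom := prop_of_isTorsorFor @Surjective h inferInstance
  obtain ⟨x, rfl⟩ := X.hom.surjective s
  let w : Spec (X.left.residueField x) ⟶ Spec (CommRingCat.of K) := X.left.fromSpecResidueField x ≫ X.hom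
  let t : Spec (X.left.residueField x) := IsLocalRing.closedPoint _
  have ht : w t = X.hom x := by
    show (X.left.fromSpecResidueField x ≫ X.hom) t = X.hom x
    rw [Scheme.Hom.comp_apply, Scheme.fromSpecResidueField_apply]
  obtain ⟨p⟩ := exists_point_bc (X := X) w ⟨X.left.fromSpecResidueField x, rfl⟩
  obtain ⟨e, -⟩ := exists_equivIso (NonAbH1.isPseudoTorsorSch_bc w h.1) p
  have e1 : e.iso.hom.left ≫ pullback.snd X.hom w = pullback.snd G.hom w := Over.w e.iso.hom
  haveI : IsIso e.iso.hom.left := inferInstanceAs (IsIso ((Over.forget _).map e.iso.hom))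
  rw [← ht, ← Scheme.Hom.finrank_pullback_snd X.hom w t, ← Scheme.Hom.finrank_pullback_snd G.hom w t, ← e1,
    Scheme.Hom.finrank_comp_left_of_isIso]

/-- A torsor under a finite connected group over a field is one point with purely inseparable residue field
of bounded degree. -/
theorem exists_residue [ConnectedSpace G.left] (h : NonAbH1.IsTorsorFor Scheme.fpqcPrecoverage a) :
    ∃ (L : Type u) (_ : Field L) (_ : Algebra K L) (π : Spec (CommRingCat.of L) ⟶ X.left),
      π ≫ X.hom = Spec.map (CommRingCat.ofHom (algebraMap K L)) ∧ FiniteDimensional K L ∧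
      IsPurelyInseparable K L ∧ Module.finrank K L ≤ G.hom.finrank (IsLocalRing.closedPoint K) ∧
      ∀ (E : Type u) [Field E] (p : Spec (CommRingCat.of E) ⟶ X.left),
        ∃ ψ : L →+* E, p = Spec.map (CommRingCat.ofHom ψ) ≫ π := by
  haveI := universallyInjective_of_connected G
  haveI : UniversallyInjective X.hom := prop_of_isTorsorFor @UniversallyInjective h inferInstance
  haveI := FpqcDesc.descendsAlong_isFinite.{u}
  haveI : IsFinite X.hom := prop_of_isTorsorFor @IsFinite h inferInstance
  haveI : Surjective G.hom := ⟨fun y => ⟨η[G].left y, by rw [← Scheme.Hom.comp_apply, Over.w η[G]]; rfl⟩⟩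
  haveI : Surjective X.hom := prop_of_isTorsorFor @Surjective h inferInstance
  obtain ⟨x, -⟩ := X.hom.surjective (IsLocalRing.closedPoint K)
  haveI : IsAffine X.left := isAffine_of_isAffineHom X.hom
  obtain ⟨φ, hφ⟩ := Spec.map_surjective (X.left.isoSpec.inv ≫ X.hom)
  let B : Type u := Γ(X.left, ⊤)
  letI : Algebra K B := φ.hom.toAlgebra
  have hfin : IsFinite (Spec.map φ) := by rw [hφ]; infer_instance
  haveI : Module.Finite K B := (IsFinite.SpecMap_iff φ).1 hfin
  haveI : Subsingleton (PrimeSpectrum B) :=
    haveI : Subsingleton (Spec (CommRingCat.of K)) := inferInstanceAs (Subsingleton (PrimeSpectrum K))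
    haveI : Subsingleton X.left := ⟨fun a b => X.hom.injective (Subsingleton.elim _ _)⟩
    X.left.isoSpec.inv.homeomorph.injective.subsingleton
  let m : PrimeSpectrum B := X.left.isoSpec.hom x
  haveI : m.asIdeal.IsMaximal := by
    haveI : Nontrivial B := ⟨⟨0, 1, fun e => m.2.ne_top ((Ideal.eq_top_iff_one _).2 (e ▸ m.asIdeal.zero_mem))⟩⟩
    obtain ⟨I, hI⟩ := Ideal.exists_maximal B
    have : m = ⟨I, hI.isPrime⟩ := Subsingleton.elim _ _
    rw [this]; exact hI
  let L : Type u := B ⧸ m.asIdeal
  letI : Field L := Ideal.Quotient.field m.asIdeal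
  let π : Spec (CommRingCat.of L) ⟶ X.left :=
    Spec.map (CommRingCat.ofHom (Ideal.Quotient.mk m.asIdeal)) ≫ X.left.isoSpec.inv
  have hπ : π ≫ X.hom = Spec.map (CommRingCat.ofHom (algebraMap K L)) := by
    rw [Category.assoc, ← hφ, ← Spec.map_comp]
    rfl
  haveI : Mono π := by
    haveI : Mono (Spec.map (CommRingCat.ofHom (Ideal.Quotient.mk m.asIdeal))) := by
      haveI := IsClosedImmersion.spec_of_surjective (CommRingCat.ofHom (Ideal.Quotient.mk m.asIdeal))
        Ideal.Quotient.mk_surjective
      infer_instance
    infer_instance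
  haveI : UniversallyInjective (Spec.map (CommRingCat.ofHom (algebraMap K L))) := by
    rw [← hπ]
    exact MorphismProperty.comp_mem _ π X.hom inferInstance inferInstance
  have hfinL : FiniteDimensional K L := Module.Finite.of_surjective (Ideal.Quotient.mkₐ K m.asIdeal).toLinearMap
    Ideal.Quotient.mk_surjective
  refine ⟨L, inferInstance, inferInstance, π, hπ, hfinL, ?_, ?_, fun E _ p => ?_⟩
  · rw [isPurelyInseparable_iff_subsingleton_emb]
    refine ⟨fun σ τ => AlgHom.coe_ringHom_injective ?_⟩
    have hinj := (((tfae_universallyInjective (Spec.map (CommRingCat.ofHom (algebraMap K L)))).out 0 1 :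
      UniversallyInjective _ ↔ ∀ (E : Type u) [Field E], Function.Injective
        (fun g : Spec (CommRingCat.of E) ⟶ Spec (CommRingCat.of L) =>
          g ≫ Spec.map (CommRingCat.ofHom (algebraMap K L))))).1 ‹_› (AlgebraicClosure L)
    have := @hinj (Spec.map (CommRingCat.ofHom σ.toRingHom)) (Spec.map (CommRingCat.ofHom τ.toRingHom)) (by
      show _ ≫ _ = _ ≫ _
      rw [← Spec.map_comp, ← Spec.map_comp, ← CommRingCat.ofHom_comp, ← CommRingCat.ofHom_comp]
      congr 2
      ext k
      exact (σ.commutes k).trans (τ.commutes k).symm)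
    exact congrArg CommRingCat.Hom.hom (Spec.map_injective this)
  · haveI := flat_over_field X.hom
    rw [← finrank_eq_of_isTorsorFor h (IsLocalRing.closedPoint K)]
    have e1 : X.hom = X.left.isoSpec.hom ≫ Spec.map φ := by rw [hφ, Iso.hom_inv_id_assoc]
    haveI : Flat (Spec.map φ) := flat_over_field _
    have e2 : X.hom.finrank (IsLocalRing.closedPoint K) = Module.finrank K B := by
      rw [e1, Scheme.Hom.finrank_comp_left_of_isIso]
      exact (Scheme.Hom.finrank_SpecMap_algebraMap K B _).trans
        (congrFun Module.rankAtStalk_eq_finrank_of_free _)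
    rw [e2]
    exact LinearMap.finrank_le_finrank_of_surjective (f := (Ideal.Quotient.mkₐ K m.asIdeal).toLinearMap)
      Ideal.Quotient.mk_surjective
  · obtain ⟨θ, hθ⟩ := Spec.map_surjective (p ≫ X.left.isoSpec.hom)
    let θ' : B →+* E := θ.hom
    have hle : m.asIdeal ≤ RingHom.ker θ' := by
      have : m = ⟨RingHom.ker θ', RingHom.ker_isPrime θ'⟩ := Subsingleton.elim _ _
      exact (congrArg PrimeSpectrum.asIdeal this).le
    refine ⟨Ideal.Quotient.lift m.asIdeal θ' hle, ?_⟩
    rw [← Category.assoc, ← Spec.map_comp, Iso.eq_comp_inv, ← hθ]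
    rfl

end Groth.Agent.TorsorSch25
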