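import Mathlib

/-!
Absolute integral closures: Seidenberg's lemma, valuation rings, sections of proper morphisms over them.
-/

set_option autoImplicit false
set_option backward.isDefEq.respectTransparency.types false

universe u

open CategoryTheory CategoryTheory.Limits AlgebraicGeometry Polynomial

namespace Groth.Agent.TorsorSch25

/-- Seidenberg: an element killed by a polynomial with a unit coefficient over an integrally closed local domain
lies in it or has its inverse in it. -/
theorem mem_or_inv_mem_of_root {O L : Type*} [CommRing O] [IsDomain O] [IsLocalRing O] [IsIntegrallyClosed O]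
    [Field L] [Algebra O L] [IsFractionRing O L] (x : L) :
    ∀ (n : ℕ) (a : ℕ → O), ∑ i ∈ Finset.range (n + 1), algebraMap O L (a i) * x ^ i = 0 →
      (∃ i ≤ n, IsUnit (a i)) → (∃ y, algebraMap O L y = x) ∨ ∃ y, algebraMap O L y = x⁻¹ := by
  intro n
  induction n with
  | zero =>
    intro a h hu
    obtain ⟨i, hi, hu⟩ := hu
    obtain rfl : i = 0 := Nat.le_zero.1 hi
    rw [Finset.sum_range_one, pow_zero, mul_one, map_eq_zero_iff _ (IsFractionRing.injective O L)] at h
    exact absurd (h ▸ hu) not_isUnit_zero
  | succ n ih =>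
    intro a h hu
    rw [Finset.sum_range_succ] at h
    have hint : IsIntegral O (algebraMap O L (a (n + 1)) * x) := by
      refine ⟨X ^ (n + 1) + ∑ i ∈ Finset.range (n + 1), C (a i * a (n + 1) ^ (n - i)) * X ^ i, ?_, ?_⟩
      · refine monic_X_pow_add (lt_of_le_of_lt (degree_sum_le _ _) ?_)
        rw [Finset.sup_lt_iff (WithBot.bot_lt_coe _)]
        intro i hi
        exact lt_of_le_of_lt (degree_C_mul_X_pow_le i _) (by exact_mod_cast Finset.mem_range.1 hi)
      · rw [eval₂_add, eval₂_X_pow, eval₂_finsetSum]
        have key := congrArg (algebraMap O L (a (n + 1)) ^ n * ·) h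
        simp only [mul_add, Finset.mul_sum, mul_zero] at key
        refine Eq.trans ?_ key
        rw [add_comm]
        refine congrArg₂ (· + ·) (Finset.sum_congr rfl fun i hi => ?_) (by rw [mul_pow]; ring)
        rw [eval₂_mul, eval₂_C, eval₂_X_pow, map_mul, map_pow, mul_pow,
          ← Nat.sub_add_cancel (Nat.lt_succ_iff.1 (Finset.mem_range.1 hi)), pow_add]
        simp only [Nat.add_sub_cancel]
        ring
    obtain ⟨y, hy⟩ := IsIntegrallyClosed.isIntegral_iff.1 hint
    by_cases han : IsUnit (a (n + 1))
    · refine Or.inl ⟨↑han.unit⁻¹ * y, ?_⟩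
      rw [map_mul, hy, ← mul_assoc, ← map_mul, han.val_inv_mul, map_one, one_mul]
    by_cases hyu : IsUnit y
    · refine Or.inr ⟨↑hyu.unit⁻¹ * a (n + 1), ?_⟩
      refine (inv_eq_of_mul_eq_one_right ?_).symm
      rw [mul_comm, map_mul, mul_assoc, ← hy, ← map_mul, hyu.val_inv_mul, map_one]
    refine ih (Function.update a n (a n + y)) ?_ ?_
    · rw [Finset.sum_range_succ]
      rw [Finset.sum_range_succ] at h
      rw [← h, Function.update_self]
      have hs : ∑ i ∈ Finset.range n, algebraMap O L (Function.update a n (a n + y) i) * x ^ i =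
          ∑ i ∈ Finset.range n, algebraMap O L (a i) * x ^ i :=
        Finset.sum_congr rfl fun i hi => by rw [Function.update_of_ne (Finset.mem_range.1 hi).ne]
      rw [hs, map_add, hy]
      ring
    · obtain ⟨i, hi, hu⟩ := hu
      rcases Nat.lt_or_ge i (n + 1) with hin | hin
      · refine ⟨i, Nat.lt_succ_iff.1 hin, ?_⟩
        by_cases hein : i = n
        · subst hein
          rw [Function.update_self]
          rcases IsLocalRing.isUnit_or_isUnit_of_isUnit_add
            (a := a i + y) (b := -y) (by rwa [add_neg_cancel_right]) with h' | h'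
          · exact h'
          · exact absurd h' (fun h' => hyu (by simpa using h'.neg))
        · rwa [Function.update_of_ne hein]
      · exact absurd ((show i = n + 1 by omega) ▸ hu) han

/-- In a ring all of whose localisations at primes are valuation rings one coefficient dominates the others. -/
theorem exists_dominant_coeff {R : Type*} [CommRing R] [IsDomain R] (p : Ideal R) [p.IsPrime]
    [ValuationRing (Localization.AtPrime p)] (r : ℕ → R) (n : ℕ) :
    ∃ j ≤ n, ∀ i ≤ n, algebraMap R (Localization.AtPrime p) (r j) ∣ algebraMap R (Localization.AtPrime p) (r i) := by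
  induction n with
  | zero => exact ⟨0, le_rfl, fun i hi => by rw [Nat.le_zero.1 hi]⟩
  | succ n ih =>
    obtain ⟨j, hj, hdiv⟩ := ih
    rcases ValuationRing.dvd_total (algebraMap R (Localization.AtPrime p) (r j))
      (algebraMap R (Localization.AtPrime p) (r (n + 1))) with h | h
    · refine ⟨j, hj.trans (Nat.le_succ n), fun i hi => ?_⟩
      rcases Nat.lt_or_ge i (n + 1) with hin | hin
      · exact hdiv i (Nat.lt_succ_iff.1 hin)
      · rwa [show i = n + 1 by omega]
    · refine ⟨n + 1, le_rfl, fun i hi => ?_⟩
      rcases Nat.lt_or_ge i (n + 1) with hin | hin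
      · exact h.trans (hdiv i (Nat.lt_succ_iff.1 hin))
      · rw [show i = n + 1 by omega]

/-- The local rings of the integral closure of a Prüfer domain in an algebraic extension of its fraction field. -/
theorem valuationRing_atPrime_integralClosure {R L : Type u} [CommRing R] [IsDomain R]
    (hR : ∀ (p : Ideal R) [p.IsPrime], ValuationRing (Localization.AtPrime p))
    [Field L] [Algebra R L] [FaithfulSMul R L] [Algebra.IsAlgebraic R L]
    (q : Ideal (integralClosure R L)) [q.IsPrime] : ValuationRing (Localization.AtPrime q) := by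
  let A := integralClosure R L
  haveI : IsFractionRing A L :=
    integralClosure.isFractionRing_of_algebraic (fun x hx => FaithfulSMul.algebraMap_injective R L (by rw [hx, map_zero]))
  let O := Localization.AtPrime q
  haveI : IsIntegrallyClosed A := (isIntegrallyClosed_iff_isIntegrallyClosedIn L).2 inferInstance
  haveI : IsIntegrallyClosed O :=
    isIntegrallyClosed_of_isLocalization _ q.primeCompl q.primeCompl_le_nonZeroDivisors
  letI : Algebra O L := (IsLocalization.lift (S := O) (M := q.primeCompl) (g := algebraMap A L) fun y =>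
    (map_ne_zero_iff _ (IsFractionRing.injective A L)).2 (nonZeroDivisors.ne_zero
      (q.primeCompl_le_nonZeroDivisors y.2)) |>.isUnit).toAlgebra
  haveI : IsScalarTower A O L := IsScalarTower.of_algebraMap_eq fun a => (IsLocalization.lift_eq _ a).symm
  haveI : IsFractionRing O L := IsFractionRing.isFractionRing_of_isDomain_of_isLocalization q.primeCompl O L
  rw [ValuationRing.iff_isInteger_or_isInteger O L]
  intro x
  obtain ⟨f, hf0, hf⟩ := Algebra.IsAlgebraic.isAlgebraic (R := R) x
  let p : Ideal R := q.comap (algebraMap R A)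
  haveI := hR p
  obtain ⟨j, hj, hdiv⟩ := exists_dominant_coeff p f.coeff f.natDegree
  have hrj : f.coeff j ≠ 0 := by
    intro h0
    apply hf0
    have := hdiv f.natDegree le_rfl
    rw [h0, map_zero, zero_dvd_iff,
      map_eq_zero_iff _ (IsLocalization.injective (Localization.AtPrime p) p.primeCompl_le_nonZeroDivisors)] at this
    exact leadingCoeff_eq_zero.1 this
  have hmul : ∀ i, ∃ c : O, i ≤ f.natDegree →
      algebraMap O L c * algebraMap R L (f.coeff j) = algebraMap R L (f.coeff i) := by
    intro i
    by_cases hi : i ≤ f.natDegree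
    · obtain ⟨e, he⟩ := hdiv i hi
      obtain ⟨b, s, rfl⟩ := IsLocalization.exists_mk'_eq p.primeCompl e
      have hs : algebraMap R A (s : R) ∈ q.primeCompl := s.2
      refine ⟨IsLocalization.mk' O (algebraMap R A b) ⟨_, hs⟩, fun _ => ?_⟩
      have e1 : f.coeff i * (s : R) = f.coeff j * b := by
        refine IsLocalization.injective (Localization.AtPrime p) p.primeCompl_le_nonZeroDivisors ?_
        rw [map_mul, map_mul, he, mul_assoc, IsLocalization.mk'_spec]
      have hs0 : algebraMap R L (s : R) ≠ 0 :=
        (map_ne_zero_iff _ (FaithfulSMul.algebraMap_injective R L)).2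
          (nonZeroDivisors.ne_zero (p.primeCompl_le_nonZeroDivisors s.2))
      refine mul_right_cancel₀ hs0 ?_
      rw [mul_right_comm, IsScalarTower.algebraMap_apply R A L (s : R),
        IsScalarTower.algebraMap_apply A O L (algebraMap R A (s : R)), ← map_mul,
        IsLocalization.mk'_spec (M := q.primeCompl) O (algebraMap R A b) ⟨_, hs⟩,
        ← IsScalarTower.algebraMap_apply A O L, ← IsScalarTower.algebraMap_apply R A L, ← map_mul, mul_comm b,
        ← e1, map_mul, IsScalarTower.algebraMap_apply R A L, ← IsScalarTower.algebraMap_apply A O L,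
        ← IsScalarTower.algebraMap_apply R A L]
      congr 1
    · exact ⟨0, fun h => absurd h hi⟩
  choose c hc using hmul
  have hroot : ∑ i ∈ Finset.range (f.natDegree + 1), algebraMap O L (c i) * x ^ i = 0 := by
    refine mul_right_cancel₀ ((map_ne_zero_iff _ (FaithfulSMul.algebraMap_injective R L)).2 hrj) ?_
    rw [zero_mul, Finset.sum_mul, ← hf, aeval_eq_sum_range]
    refine Finset.sum_congr rfl fun i hi => ?_
    rw [mul_right_comm, hc i (Nat.lt_succ_iff.1 (Finset.mem_range.1 hi)), Algebra.smul_def]
  have hunit : IsUnit (c j) := by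
    have h1 : c j = 1 := IsFractionRing.injective O L (mul_right_cancel₀
      ((map_ne_zero_iff _ (FaithfulSMul.algebraMap_injective R L)).2 hrj) (by rw [hc j hj, map_one, one_mul]))
    rw [h1]
    exact isUnit_one
  exact mem_or_inv_mem_of_root x f.natDegree c hroot ⟨j, hj, hunit⟩

theorem valuationRing_atPrime_dedekind {R : Type u} [CommRing R] [IsDedekindDomain R] (p : Ideal R) [p.IsPrime] :
    ValuationRing (Localization.AtPrime p) := by
  haveI : IsDedekindDomain (Localization.AtPrime p) :=
    IsLocalization.isDedekindDomain R p.primeCompl_le_nonZeroDivisors _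
  exact ((tfae_of_isNoetherianRing_of_isLocalRing_of_isDomain (Localization.AtPrime p)).out 2 1).1 ‹_›

/-- A generic point of a proper scheme over an integral scheme whose local rings are valuation rings extends. -/
theorem exists_section_of_valuationRing {X Y : Scheme.{u}} [IsIntegral Y]
    (hY : ∀ y : Y, ValuationRing (Y.presheaf.stalk y)) (f : X ⟶ Y) [IsProper f]
    (x : Spec Y.functionField ⟶ X) (hx : x ≫ f = Y.fromSpecStalk (genericPoint Y)) :
    ∃ s : Y ⟶ X, s ≫ f = 𝟙 Y ∧ Y.fromSpecStalk (genericPoint Y) ≫ s = x := by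
  have hloc : ∀ y : Y, ∃ (W : Y.Opens) (t : W.toScheme ⟶ X) (hy : y ∈ W), t ≫ f = W.ι ∧
      Spec.map (Y.presheaf.stalkSpecializes ((genericPoint_spec Y).specializes trivial)) ≫
        W.fromSpecStalkOfMem y hy ≫ t = x := by
    intro y
    have hd : IsDomain (Y.presheaf.stalk y) := inferInstance
    have hfr : IsFractionRing (Y.presheaf.stalk y) Y.functionField := inferInstance
    have hex : ValuativeCriterion.Existence f := by
      have h : UniversallyClosed f := inferInstance
      rw [UniversallyClosed.eq_valuativeCriterion] at h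
      exact h.1
    have hsp : genericPoint Y ⤳ y := (genericPoint_spec Y).specializes trivial
    let sq : ValuativeCommSq f :=
      { R := Y.presheaf.stalk y, commRing := inferInstance, domain := hd, valuationRing := hY y,
        K := Y.functionField, field := inferInstance, algebra := stalkFunctionFieldAlgebra Y y,
        isFractionRing := hfr, i₁ := x, i₂ := Y.fromSpecStalk y,
        commSq := ⟨by
          rw [hx]
          exact (Scheme.SpecMap_stalkSpecializes_fromSpecStalk hsp).symm⟩ }
    obtain ⟨⟨l, hl1, hl2⟩⟩ := (hex sq).exists_lift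
    have hl2' : l ≫ f = Y.fromSpecStalk y ≫ 𝟙 Y := by rw [Category.comp_id]; exact hl2
    obtain ⟨W, hy, t, ht, htf⟩ := spread_out_of_isGermInjective' (𝟙 Y) f l (x := y) hl2'
    refine ⟨W, t, hy, by rw [htf, Category.comp_id], ?_⟩
    rw [← ht]
    exact hl1
  choose W t hy htf hgen using hloc
  have hW : ⨆ y, W y = ⊤ := top_le_iff.1 fun z _ => TopologicalSpace.Opens.mem_iSup.2 ⟨z, hy z⟩
  let 𝒰 := Y.openCoverOfIsOpenCover W (TopologicalSpace.IsOpenCover.mk hW)
  have key : ∀ a b : Y, Y.homOfLE (inf_le_left : W a ⊓ W b ≤ W a) ≫ t a =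
      Y.homOfLE (inf_le_right : W a ⊓ W b ≤ W b) ≫ t b := by
    intro a b
    haveI : IsReduced (W a ⊓ W b : Y.Opens).toScheme := isReduced_of_isOpenImmersion (Scheme.Opens.ι _)
    have hηW : ∀ (V : Y.Opens) (z : Y), z ∈ V → genericPoint Y ∈ V := fun V z hz =>
      ((genericPoint_spec Y).specializes trivial).mem_open V.2 hz
    have hηab : genericPoint Y ∈ W a ⊓ W b := ⟨hηW _ _ (hy a), hηW _ _ (hy b)⟩
    let d := (W a ⊓ W b).fromSpecStalkOfMem (genericPoint Y) hηab
    haveI : IsDominant d := by
      rw [isDominant_iff, DenseRange, dense_iff_inter_open]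
      rintro O hO ⟨z, hz⟩
      have hd : d (IsLocalRing.closedPoint _) ⤳ z := by
        rw [← (W a ⊓ W b).ι.isOpenEmbedding.isInducing.specializes_iff, ← Scheme.Hom.comp_apply,
          Scheme.Opens.fromSpecStalkOfMem_ι, Scheme.fromSpecStalk_closedPoint]
        exact (genericPoint_spec Y).specializes trivial
      exact ⟨_, hd.mem_open hO hz, Set.mem_range_self _⟩
    refine ext_of_isDominant_of_isSeparated f (by simp only [Category.assoc, htf, Scheme.homOfLE_ι]) d ?_
    have e : ∀ (c : Y) (hc : W a ⊓ W b ≤ W c), d ≫ Y.homOfLE hc ≫ t c = x := by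
      intro c hc
      rw [← hgen c, ← Category.assoc, ← Category.assoc _ _ (t c)]
      congr 1
      rw [← cancel_mono (W c).ι]
      simp only [d, Category.assoc, Scheme.homOfLE_ι, Scheme.Opens.fromSpecStalkOfMem_ι,
        Scheme.SpecMap_stalkSpecializes_fromSpecStalk]
    rw [e a, e b]
  refine ⟨𝒰.glueMorphisms t fun a b => ?_, 𝒰.hom_ext _ _ fun a => ?_, ?_⟩
  · refine (cancel_epi (isPullback_opens_inf (W a) (W b)).isoPullback.hom).mp ?_
    change _ ≫ pullback.fst (W a).ι (W b).ι ≫ _ = _ ≫ pullback.snd (W a).ι (W b).ι ≫ _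
    rw [IsPullback.isoPullback_hom_fst_assoc, IsPullback.isoPullback_hom_snd_assoc]
    exact key a b
  · rw [Scheme.Cover.ι_glueMorphisms_assoc, Category.comp_id]
    exact htf a
  · obtain ⟨y⟩ : Nonempty Y := inferInstance
    rw [← hgen y, ← Scheme.SpecMap_stalkSpecializes_fromSpecStalk
        ((genericPoint_spec Y).specializes (Set.mem_univ y)),
      ← Scheme.Opens.fromSpecStalkOfMem_ι (W y) y (hy y)]
    simp only [Category.assoc]
    congr 2
    exact 𝒰.ι_glueMorphisms t _ y

end Groth.Agent.TorsorSch25
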