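import Groth.Agent.Lib.TorsorSch25.Transfer

/-!
Descent of invariant morphisms along torsors.
-/

set_option autoImplicit false
set_option backward.isDefEq.respectTransparency.types false

universe u

open CategoryTheory CategoryTheory.Limits MonoidalCategory CartesianMonoidalCategory MonObj AlgebraicGeometry

namespace Groth.Agent.TorsorSch25

variable {S : Scheme.{u}} {G X Z : Over S} [GrpObj G] {a : AlgGrp.Action G X}

/-- An invariant morphism out of a torsor factors uniquely through the base. -/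
theorem existsUnique_descend (ha : NonAbH1.IsTorsorFor Scheme.fpqcPrecoverage a) (φ : X ⟶ Z)
    (hφ : a.act ≫ φ = snd G X ≫ φ) : ∃! f : 𝟙_ (Over S) ⟶ Z, toUnit X ≫ f = φ := by
  obtain ⟨R, hR, hsec⟩ := ha.2
  have inv' : ∀ {W : Over S} (x x' : W ⟶ X), x ≫ φ = x' ≫ φ := fun {W} x x' => by
    obtain ⟨g, hg, -⟩ := existsUnique_smul ha.1 x x'
    rw [← hg, Category.assoc, hφ, lift_snd_assoc]
  obtain ⟨R₀, hR₀, hR₀'⟩ := exists_cover_over hR (𝟙_ (Over S))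
  obtain ⟨f, hf⟩ := exists_glue (T := 𝟙_ (Over S)) (Z := Z)
    (fun T' _ z => ∀ ⦃W : Over S⦄ (b : W ⟶ T') (x : W ⟶ X), b ≫ z = x ≫ φ)
    (fun T' T'' e c z hz W b x => by
      rw [← Category.assoc]
      exact hz (b ≫ e) x)
    (fun T' c z z' hz hz' => by
      obtain ⟨R', hR', hR''⟩ := exists_cover_over hR T'
      refine hom_ext_of_cover hR' fun W b hb => ?_
      obtain ⟨x⟩ := hR'' hsec b hb
      rw [hz b x, hz' b x])
    hR₀ (fun T' c hc => by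
      obtain ⟨x₀⟩ := hR₀' hsec c hc
      exact ⟨x₀ ≫ φ, fun W b x => by rw [← Category.assoc]; exact inv' _ _⟩)
  have hmain : toUnit X ≫ f = φ := by
    obtain ⟨R', hR', hR''⟩ : ∃ R' ∈ Scheme.fpqcPrecoverage X.left, ∀ ⦃W : Over S⦄ (b : W ⟶ X), R' b.left →
        ∃ (T' : Over S) (c : T' ⟶ 𝟙_ (Over S)) (_ : R₀ c.left) (e : W ⟶ T'), e ≫ c = b ≫ toUnit X := by
      refine ⟨R₀.pullbackArrows (toUnit X).left, Precoverage.pullbackArrows_mem _ hR₀, fun W b hb => ?_⟩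
      obtain ⟨V, u, hu, q, hq⟩ : ∃ (V : Scheme.{u}) (u : V ⟶ (𝟙_ (Over S)).left) (_ : R₀ u)
          (q : W.left ⟶ V), q ≫ u = b.left ≫ (toUnit X).left := exists_of_pullbackArrows hb
      refine ⟨Over.mk (u ≫ (𝟙_ (Over S)).hom), Over.homMk u rfl, hu, Over.homMk q ?_, Over.OverMorphism.ext hq⟩
      show q ≫ u ≫ (𝟙_ (Over S)).hom = W.hom
      rw [reassoc_of% hq, Over.w (toUnit X), Over.w b]
    refine hom_ext_of_cover hR' fun W b hb => ?_
    obtain ⟨T', c, hc, e, he⟩ := hR'' b hb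
    have h1 := hf c hc e b
    rw [← Category.assoc, he, Category.assoc] at h1
    exact h1
  refine ⟨f, hmain, fun f' hf' => ?_⟩
  refine hom_ext_of_cover hR₀ fun T' c hc => ?_
  obtain ⟨x⟩ := hR₀' hsec c hc
  have h1 : ∀ g : 𝟙_ (Over S) ⟶ Z, c ≫ g = x ≫ toUnit X ≫ g := fun g => by
    rw [← Category.assoc x, toUnit_unique (x ≫ toUnit X) c]
  rw [h1, h1, hf', hmain]

/-- Coverings compose. -/
theorem exists_cover_comp {R : Presieve S} (hR : R ∈ Scheme.fpqcPrecoverage S)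
    {Q : ∀ ⦃V : Scheme.{u}⦄, (V ⟶ S) → Prop}
    (h : ∀ ⦃V : Scheme.{u}⦄ (f : V ⟶ S), R f →
      ∃ R' ∈ Scheme.fpqcPrecoverage V, ∀ ⦃W : Scheme.{u}⦄ (g : W ⟶ V), R' g → Q (g ≫ f)) :
    ∃ R'' ∈ Scheme.fpqcPrecoverage S, ∀ ⦃V : Scheme.{u}⦄ (f : V ⟶ S), R'' f → Q f := by
  obtain ⟨I₀, Y, f, rfl⟩ := R.exists_eq_ofArrows
  choose R' hR' hQ using fun i => h (f i) (Presieve.ofArrows.mk i)
  choose σ W g hg using fun i => (R' i).exists_eq_ofArrows
  refine ⟨_, Precoverage.comp_mem_coverings f hR g (fun i => hg i ▸ hR' i), ?_⟩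
  rintro V _ ⟨i, j⟩
  exact hQ i _ (hg i ▸ Presieve.ofArrows.mk j)

/-- For an exact sequence of groups the kernel of `v` is the image of `u`, uniquely. -/
theorem exists_eq_of_comp_eq_one {G' G'' : Over S} [GrpObj G'] [GrpObj G'']
    {u : G' ⟶ G} {v : G ⟶ G''} (hex : NonAbH1.IsExactSeq Scheme.fpqcPrecoverage u v) {T : Over S} (t : T ⟶ G)
    (ht : t ≫ v = 1) : ∃! k : T ⟶ G', k ≫ u = t := by
  obtain ⟨_, _, -, hpb, -⟩ := hex
  have key : ∀ k : T ⟶ G', lift (1 : T ⟶ G) k ≫ (G ◁ u) ≫ μ[G] = k ≫ u := fun k => by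
    rw [lift_whiskerLeft_assoc, ← Hom.mul_def, _root_.one_mul]
  obtain ⟨h, h1, h2⟩ : ∃ h : T ⟶ G ⊗ G', h ≫ fst G G' = 1 ∧ h ≫ (G ◁ u) ≫ μ[G] = t :=
    have w : (1 : T ⟶ G) ≫ v = t ≫ v := by rw [MonObj.one_comp, ht]
    ⟨hpb.lift 1 t w, hpb.lift_fst _ _ w, hpb.lift_snd _ _ w⟩
  have hh : h = lift (1 : T ⟶ G) (h ≫ snd G G') := by
    rw [← h1, ← comp_lift, lift_fst_snd, Category.comp_id]
  refine ⟨h ≫ snd G G', ?_, fun k hk => ?_⟩
  · show _ ≫ u = t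
    rw [← key, ← hh, h2]
  · have e : lift (1 : T ⟶ G) k = h := by
      refine hpb.hom_ext (by rw [lift_fst, h1]) (by rw [key, hk, h2])
    rw [← e, lift_snd]

end Groth.Agent.TorsorSch25
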