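import Groth.Agent.Lib.TorsorSch25.Basic
import Groth.Prelude.Def_ActBC
import Mathlib.AlgebraicGeometry.Morphisms.SchemeTheoreticallyDominant

/-!
Extension of isomorphisms of torsors from a schematically dense part of the base.
-/

set_option autoImplicit false
set_option backward.isDefEq.respectTransparency.types false

universe u

open CategoryTheory CategoryTheory.Limits MonoidalCategory CartesianMonoidalCategory MonObj AlgebraicGeometry

namespace Groth.Agent.TorsorSch25

variable {S : Scheme.{u}}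

/-- Morphisms to a separated object agree if they agree after a schematically dominant morphism. -/
theorem hom_ext_of_schDominant {W' W Z : Over S} [IsSeparated Z.hom] (d : W' ⟶ W)
    [IsSchemeTheoreticallyDominant d.left] {z z' : W ⟶ Z} (h : d ≫ z = d ≫ z') : z = z' := by
  ext : 1
  have hz : z.left ≫ Z.hom = z'.left ≫ Z.hom := (Over.w z).trans (Over.w z').symm
  let p : W.left ⟶ pullback Z.hom Z.hom := pullback.lift z.left z'.left hz
  let e := pullback.fst p (pullback.diagonal Z.hom)
  have hd : d.left ≫ z.left = d.left ≫ z'.left := congrArg (fun q => q.left) h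
  let l : W'.left ⟶ pullback p (pullback.diagonal Z.hom) := pullback.lift d.left (d.left ≫ z.left) (by
    apply pullback.hom_ext
    · rw [Category.assoc, Category.assoc, pullback.diagonal_fst, Category.comp_id, pullback.lift_fst]
    · rw [Category.assoc, Category.assoc, pullback.diagonal_snd, Category.comp_id, pullback.lift_snd, hd])
  have hl : l ≫ e = d.left := pullback.lift_fst _ _ _
  haveI : IsSchemeTheoreticallyDominant (l ≫ e) := by rw [hl]; infer_instance
  haveI : IsIso e := IsClosedImmersion.isIso_iff_ker_eq_bot.2 (le_bot_iff.1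
    ((Scheme.Hom.le_ker_comp l e).trans (Scheme.Hom.ker_eq_bot (l ≫ e)).le))
  rw [← cancel_epi e]
  have hc : e ≫ p = pullback.snd p (pullback.diagonal Z.hom) ≫ pullback.diagonal Z.hom := pullback.condition
  have h1 : e ≫ z.left = pullback.snd p (pullback.diagonal Z.hom) := by
    have := congrArg (fun q => q ≫ pullback.fst Z.hom Z.hom) hc
    rwa [Category.assoc, pullback.lift_fst, Category.assoc, pullback.diagonal_fst, Category.comp_id] at this
  have h2 : e ≫ z'.left = pullback.snd p (pullback.diagonal Z.hom) := by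
    have := congrArg (fun q => q ≫ pullback.snd Z.hom Z.hom) hc
    rwa [Category.assoc, pullback.lift_snd, Category.assoc, pullback.diagonal_snd, Category.comp_id] at this
  exact h1.trans h2.symm

theorem isPullback_whiskerRight_left {A B : Over S} (t : A ⟶ B) (T : Over S) :
    IsPullback (fst A T).left (t ▷ T).left t.left (fst B T).left := by
  refine IsPullback.of_bot (v₂₁ := (snd B T).left) (v₂₂ := B.hom) (h₃₁ := T.hom) ?_ ?_ ?_
  · rw [← Over.comp_left, whiskerRight_snd, Over.w]
    exact IsPullback.of_hasPullback A.hom T.hom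
  · rw [← Over.comp_left, ← Over.comp_left, whiskerRight_fst]
  · exact IsPullback.of_hasPullback B.hom T.hom

theorem isPullback_whiskerLeft_left (A : Over S) {T U : Over S} (t : T ⟶ U) :
    IsPullback (snd A T).left (A ◁ t).left t.left (snd A U).left := by
  refine IsPullback.of_bot (v₂₁ := (fst A U).left) (v₂₂ := U.hom) (h₃₁ := A.hom) ?_ ?_ ?_
  · rw [← Over.comp_left, whiskerLeft_fst, Over.w]
    exact (IsPullback.of_hasPullback A.hom T.hom).flip
  · rw [← Over.comp_left, ← Over.comp_left, whiskerLeft_snd]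
  · exact (IsPullback.of_hasPullback A.hom U.hom).flip

/-- The square of a schematically dominant morphism to a flat object, flat over the base, is again so. -/
theorem schDominant_tensor {A B : Over S} (t : A ⟶ B) [IsSchemeTheoreticallyDominant t.left]
    [QuasiCompact t.left] [Flat A.hom] [Flat B.hom] :
    IsSchemeTheoreticallyDominant ((A ◁ t) ≫ (t ▷ B)).left := by
  haveI : Flat (fst B B).left := inferInstanceAs (Flat (pullback.fst B.hom B.hom))
  haveI : Flat (snd A B).left := inferInstanceAs (Flat (pullback.snd A.hom B.hom))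
  haveI := IsSchemeTheoreticallyDominant.of_isPullback (isPullback_whiskerRight_left t B)
  haveI := IsSchemeTheoreticallyDominant.of_isPullback (isPullback_whiskerLeft_left A t)
  rw [Over.comp_left]
  infer_instance

section Points

variable {S' : Scheme.{u}} (g : S' ⟶ S) {X Y : Over S}

/-- The action of a morphism of base changes on points over objects over the new base. -/
noncomputable def pointMap (e : Red.bc g X ⟶ Red.bc g Y) {W : Over S'} (x : (Over.map g).obj W ⟶ X) :
    (Over.map g).obj W ⟶ Y :=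
  ((Over.mapPullbackAdj g).homEquiv W Y).symm ((Over.mapPullbackAdj g).homEquiv W X x ≫ e)

theorem pointMap_comp (e : Red.bc g X ⟶ Red.bc g Y) {W V : Over S'} (v : V ⟶ W)
    (x : (Over.map g).obj W ⟶ X) :
    pointMap g e ((Over.map g).map v ≫ x) = (Over.map g).map v ≫ pointMap g e x := by
  rw [pointMap, pointMap, ← Adjunction.homEquiv_naturality_left_symm, ← Category.assoc,
    Adjunction.homEquiv_naturality_left]

theorem pointMap_smul {G : Over S} [GrpObj G] {a : AlgGrp.Action G X} {b : AlgGrp.Action G Y}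
    (e : NonAbH1.EquivIso (a.bc g) (b.bc g)) {W : Over S'} (γ : (Over.map g).obj W ⟶ G)
    (x : (Over.map g).obj W ⟶ X) :
    pointMap g e.iso.hom (lift γ x ≫ a.act) = lift γ (pointMap g e.iso.hom x) ≫ b.act := by
  refine ((Over.mapPullbackAdj g).homEquiv W Y).injective ?_
  rw [pointMap, Equiv.apply_symm_apply, ← AlgGrp.Action.lift_homEquiv_bc_act g b,
    ← AlgGrp.Action.lift_homEquiv_bc_act g a, Category.assoc, e.comm, lift_whiskerLeft_assoc,
    pointMap, Equiv.apply_symm_apply]

end Points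

set_option maxHeartbeats 1000000 in
/-- An isomorphism of torsors over a schematically dense part of the base extends, given compatible points over a
flat covering. -/
theorem exists_equivIso_extend {G P Q : Over S} [GrpObj G] {a : AlgGrp.Action G P} {b : AlgGrp.Action G Q}
    (ha : NonAbH1.IsTorsorFor Scheme.fpqcPrecoverage a) (hb : NonAbH1.IsPseudoTorsorSch b) [IsSeparated Q.hom]
    {S' : Scheme.{u}} (g : S' ⟶ S) [Mono g] (e : NonAbH1.EquivIso (a.bc g) (b.bc g))
    {T : Over S} [Flat T.hom] [Surjective T.hom] [QuasiCompact T.hom] (p : T ⟶ P) (q : T ⟶ Q)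
    {B : Over S'} (t : (Over.map g).obj B ⟶ T) [IsSchemeTheoreticallyDominant t.left] [QuasiCompact t.left]
    [Flat ((Over.map g).obj B).hom] (hpq : pointMap g e.iso.hom (t ≫ p) = t ≫ q) :
    Nonempty (NonAbH1.EquivIso a b) := by
  have K : ∀ {W : Over S} (b₁ b₂ : W ⟶ T) (γ : W ⟶ G), lift γ (b₁ ≫ p) ≫ a.act = b₂ ≫ p →
      lift γ (b₁ ≫ q) ≫ b.act = b₂ ≫ q := by
    have huniv : ∀ γ : T ⊗ T ⟶ G, lift γ (fst T T ≫ p) ≫ a.act = snd T T ≫ p →
        lift γ (fst T T ≫ q) ≫ b.act = snd T T ≫ q := by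
      intro γ hγ
      let D : Over S' := Over.mk ((fst ((Over.map g).obj B) ((Over.map g).obj B)).left ≫ B.hom)
      let d₀ : (Over.map g).obj D ⟶ ((Over.map g).obj B) ⊗ ((Over.map g).obj B) := Over.homMk (𝟙 _) (by
        show 𝟙 _ ≫ (((Over.map g).obj B) ⊗ ((Over.map g).obj B)).hom = ((fst ((Over.map g).obj B) ((Over.map g).obj B)).left ≫ B.hom) ≫ g
        rw [Category.id_comp, Category.assoc]; exact (Over.w (fst ((Over.map g).obj B) ((Over.map g).obj B))).symm)
      let v₁ : D ⟶ B := Over.homMk (fst ((Over.map g).obj B) ((Over.map g).obj B)).left rfl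
      let v₂ : D ⟶ B := Over.homMk (snd ((Over.map g).obj B) ((Over.map g).obj B)).left (by
        show (snd ((Over.map g).obj B) ((Over.map g).obj B)).left ≫ B.hom = (fst ((Over.map g).obj B) ((Over.map g).obj B)).left ≫ B.hom
        rw [← cancel_mono g, Category.assoc, Category.assoc]
        exact (Over.w (snd ((Over.map g).obj B) ((Over.map g).obj B))).trans (Over.w (fst ((Over.map g).obj B) ((Over.map g).obj B))).symm)
      let d : (Over.map g).obj D ⟶ T ⊗ T := d₀ ≫ (((Over.map g).obj B) ◁ t) ≫ (t ▷ T)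
      have h₁ : d ≫ fst T T = (Over.map g).map v₁ ≫ t := by
        simp only [d, Category.assoc, whiskerRight_fst, whiskerLeft_fst_assoc]
        rw [← Category.assoc]
        congr 1
      have h₂ : d ≫ snd T T = (Over.map g).map v₂ ≫ t := by
        simp only [d, Category.assoc, whiskerRight_snd, whiskerLeft_snd]
        rw [← Category.assoc]
        congr 1
      haveI : IsSchemeTheoreticallyDominant d.left := by
        haveI := schDominant_tensor t
        show IsSchemeTheoreticallyDominant (𝟙 _ ≫ ((((Over.map g).obj B) ◁ t) ≫ (t ▷ T)).left)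
        infer_instance
      refine hom_ext_of_schDominant d ?_
      have e1 : pointMap g e.iso.hom (d ≫ fst T T ≫ p) = d ≫ fst T T ≫ q := by
        rw [reassoc_of% h₁, reassoc_of% h₁, pointMap_comp, hpq]
      have e2 : pointMap g e.iso.hom (d ≫ snd T T ≫ p) = d ≫ snd T T ≫ q := by
        rw [reassoc_of% h₂, reassoc_of% h₂, pointMap_comp, hpq]
      rw [← e2, ← hγ, comp_lift_assoc, comp_lift_assoc, pointMap_smul, e1]
    intro W b₁ b₂ γ hγ
    obtain ⟨γu, hγu, -⟩ := existsUnique_smul ha.1 (fst T T ≫ p) (snd T T ≫ p)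
    have h1 : lift b₁ b₂ ≫ γu = γ := smul_cancel ha.1 (x := b₁ ≫ p) (by
      rw [hγ]
      have := congrArg (fun z => lift b₁ b₂ ≫ z) hγu
      simpa [comp_lift_assoc] using this)
    have := congrArg (fun z => lift b₁ b₂ ≫ z) (huniv γu hγu)
    simpa [comp_lift_assoc, h1] using this
  have hR : Presieve.singleton (fst P T).left ∈ Scheme.fpqcPrecoverage P.left := by
    haveI : Flat (fst P T).left := inferInstanceAs (Flat (pullback.fst P.hom T.hom))
    haveI : Surjective (fst P T).left := inferInstanceAs (Surjective (pullback.fst P.hom T.hom))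
    haveI : QuasiCompact (fst P T).left := inferInstanceAs (QuasiCompact (pullback.fst P.hom T.hom))
    exact Scheme.Hom.singleton_mem_fpqcPrecoverage _
  have hpiece : ∀ ⦃T' : Over S⦄ (f : T' ⟶ P), Presieve.singleton (fst P T).left f.left →
      ∃ i : T' ⟶ P ⊗ T, i ≫ fst P T = f := by
    intro T' f hf
    obtain ⟨i, hi⟩ : ∃ i : T'.left ⟶ (P ⊗ T).left, i ≫ (fst P T).left = f.left := by
      have key : ∀ {V U U' : Scheme.{u}} (u : U ⟶ V) (v : U' ⟶ V), Presieve.singleton u v → ∃ i, i ≫ u = v := by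
        rintro V U U' u v ⟨⟩
        exact ⟨𝟙 _, Category.id_comp _⟩
      exact key _ _ hf
    exact ⟨Over.homMk i (by rw [← Over.w (fst P T), reassoc_of% hi, Over.w f]), Over.OverMorphism.ext hi⟩
  obtain ⟨φ, hφ⟩ := exists_glue (T := P) (Z := Q)
    (fun T' f z => ∀ ⦃W : Over S⦄ (c : W ⟶ T') (b₁ : W ⟶ T) (γ : W ⟶ G),
      lift γ (b₁ ≫ p) ≫ a.act = c ≫ f → c ≫ z = lift γ (b₁ ≫ q) ≫ b.act)
    (fun T' T'' i f z h W c b₁ γ hW => by
      rw [← Category.assoc]
      exact h (c ≫ i) b₁ γ (by rw [hW, Category.assoc]))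
    (fun T' f z z' hz hz' => by
      obtain ⟨R', hR', hR''⟩ := exists_cover_over (T.hom.singleton_mem_fpqcPrecoverage) T'
      refine hom_ext_of_cover hR' fun W c hc => ?_
      obtain ⟨b₁⟩ := hR'' (X := T) (fun S'' u hu => by
        obtain ⟨⟩ := hu
        exact ⟨𝟙 _, Category.id_comp _⟩) c hc
      obtain ⟨γ, hγ, -⟩ := existsUnique_smul ha.1 (b₁ ≫ p) (c ≫ f)
      rw [hz c b₁ γ hγ, hz' c b₁ γ hγ])
    hR (fun T' f hf => by
      obtain ⟨i, -⟩ := hpiece f hf
      let b₀ := i ≫ snd P T
      obtain ⟨γ₀, hγ₀, -⟩ := existsUnique_smul ha.1 (b₀ ≫ p) f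
      refine ⟨lift γ₀ (b₀ ≫ q) ≫ b.act, fun W c b₁ γ hW => ?_⟩
      rw [← hγ₀, comp_lift_assoc] at hW
      rw [comp_lift_assoc]
      have h1 : lift (γ⁻¹ * (c ≫ γ₀)) ((c ≫ b₀) ≫ p) ≫ a.act = b₁ ≫ p := by
        rw [Category.assoc, AlgGrp.Action.lift_mul_act, ← hW, ← AlgGrp.Action.lift_mul_act,
          _root_.inv_mul_cancel, AlgGrp.Action.lift_one_act]
      have h2 := K (c ≫ b₀) b₁ _ h1
      rw [← h2, ← AlgGrp.Action.lift_mul_act, mul_inv_cancel_left]; simp only [b₀, Category.assoc])
  have main : ∀ ⦃W : Over S⦄ (x : W ⟶ P) (b₁ : W ⟶ T) (γ : W ⟶ G),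
      lift γ (b₁ ≫ p) ≫ a.act = x → x ≫ φ = lift γ (b₁ ≫ q) ≫ b.act := by
    intro W x b₁ γ hW
    have h := hφ (fst P T) (Presieve.singleton_self _) (lift x b₁) b₁ γ (by rw [hW, lift_fst])
    rwa [lift_fst_assoc] at h
  have hequiv : a.act ≫ φ = (G ◁ φ) ≫ b.act := by
    obtain ⟨R', hR', hR''⟩ := exists_cover_over (T.hom.singleton_mem_fpqcPrecoverage) (G ⊗ P)
    refine hom_ext_of_cover hR' fun W c hc => ?_
    obtain ⟨b₁⟩ := hR'' (X := T) (fun S'' u hu => by
      obtain ⟨⟩ := hu
      exact ⟨𝟙 _, Category.id_comp _⟩) c hc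
    obtain ⟨γ, hγ, -⟩ := existsUnique_smul ha.1 (b₁ ≫ p) (c ≫ snd G P)
    have hc' : c = lift (c ≫ fst G P) (c ≫ snd G P) := by rw [← comp_lift, lift_fst_snd, Category.comp_id]
    rw [hc', lift_whiskerLeft_assoc, main _ b₁ γ hγ, ← Category.assoc,
      main (lift (c ≫ fst G P) (c ≫ snd G P) ≫ a.act) b₁ ((c ≫ fst G P) * γ)
        (by rw [AlgGrp.Action.lift_mul_act, hγ]), AlgGrp.Action.lift_mul_act]
  haveI := isIso_of_equivariant ha hb φ hequiv
  exact ⟨⟨asIso φ, hequiv⟩⟩

/-- Equal classes come from isomorphic torsors. -/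
theorem nonempty_equivIso_of_cl_eq {G : Over S} [GrpObj G] {K : Precoverage Scheme.{u}}
    {P Q : NonAbH1.TorsorSch G K} (h : P.cl = Q.cl) : Nonempty (NonAbH1.EquivIso P.act Q.act) := by
  have hgen := Quot.eqvGen_exact h
  clear h
  induction hgen with
  | rel _ _ h => exact h
  | refl A => exact ⟨⟨Iso.refl _, by simp⟩⟩
  | symm A B _ ih =>
    obtain ⟨e⟩ := ih
    refine ⟨⟨e.iso.symm, ?_⟩⟩
    rw [← cancel_mono e.iso.hom]
    simp [e.comm]
  | trans A B C _ _ ih ih' =>
    obtain ⟨e⟩ := ih
    obtain ⟨e'⟩ := ih'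
    exact ⟨⟨e.iso ≪≫ e'.iso, by rw [Iso.trans_hom, reassoc_of% e.comm, e'.comm, whiskerLeft_comp, Category.assoc]⟩⟩

end Groth.Agent.TorsorSch25
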