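import Groth.Agent.Lib.TorsorSch25.Transfer
import Groth.Agent.Lib.NormSect.Basic
import Groth.Prelude.Def_Pi1

/-!
Sections of integral morphisms over normal integral schemes from generic sections.
-/

set_option autoImplicit false
set_option backward.isDefEq.respectTransparency.types false

universe u

open CategoryTheory CategoryTheory.Limits MonoidalCategory CartesianMonoidalCategory MonObj AlgebraicGeometry

namespace Groth.Agent.TorsorSch25

/-- A generic section of an integral morphism to a normal integral scheme extends. -/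
theorem exists_section_of_generic {X X' : Scheme.{u}} [IsIntegral X] (hX : Pi1.IsNormalScheme X)
    (g : X' ⟶ X) [IsIntegralHom g] (t : Spec (X.presheaf.stalk (genericPoint X)) ⟶ X')
    (ht : t ≫ g = X.fromSpecStalk (genericPoint X)) :
    ∃ s : X ⟶ X', s ≫ g = 𝟙 X ∧ X.fromSpecStalk (genericPoint X) ≫ s = t := by
  obtain ⟨W, hW, hηW, -⟩ := exists_isAffineOpen_mem_and_subset (show genericPoint X ∈ (⊤ : X.Opens) from trivial)
  obtain ⟨m, hm, hmt⟩ := NormSect.exists_local_section (fun x => (hX x).2) g t ht W hW hηW
  obtain ⟨s, hs, hs'⟩ := NormSect.exists_section (fun x => (hX x).2) g W (W.2.dense ⟨_, hηW⟩) m hm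
  refine ⟨s, hs, ?_⟩
  rw [← W.fromSpecStalkOfMem_ι _ hηW, Category.assoc, hs', hmt]

variable {S : Scheme.{u}}

/-- A torsor under a finite group scheme is finite over the base. -/
theorem isFinite_of_isTorsorFor_fppf {G X : Over S} [GrpObj G] [IsFinite G.hom] {a : AlgGrp.Action G X}
    (h : NonAbH1.IsTorsorFor Scheme.fppfPrecoverage a) : IsFinite X.hom := by
  haveI := FpqcDesc.descendsAlong_isFinite.{u}
  exact prop_of_isTorsorFor @IsFinite
    ⟨h.1, h.2.choose, Scheme.fppfPrecoverage_le_fpqcPrecoverage _ h.2.choose_spec.1, h.2.choose_spec.2⟩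
    inferInstance

/-- Points of `G` over objects over `S'`, when `g` becomes an isomorphism over `S'`. -/
theorem bijective_comp_of_isIso_pullback {S' : Scheme.{u}} (f : S' ⟶ S) {G G' : Over S} (g : G ⟶ G')
    [IsIso ((Over.pullback f).map g)] (T : Over S') :
    Function.Bijective (fun x : (Over.map f).obj T ⟶ G => x ≫ g) := by
  let e := (Over.mapPullbackAdj f).homEquiv T G
  let e' := (Over.mapPullbackAdj f).homEquiv T G'
  have hcomp : (fun x : (Over.map f).obj T ⟶ G => x ≫ g) =
      e'.symm ∘ (fun y => y ≫ (Over.pullback f).map g) ∘ e := by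
    funext x
    rw [Function.comp_apply, Function.comp_apply, ← Adjunction.homEquiv_naturality_right, Equiv.symm_apply_apply]
  rw [hcomp]
  have hm : Function.Bijective (fun y : T ⟶ (Over.pullback f).obj G => y ≫ (Over.pullback f).map g) :=
    ⟨fun a b hab => (cancel_mono _).1 hab, fun y => ⟨y ≫ inv ((Over.pullback f).map g), by simp⟩⟩
  exact e'.symm.bijective.comp (hm.comp e.bijective)

end Groth.Agent.TorsorSch25
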